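/-
Doubly transitive groups of affine maps of a finite field of characteristic two that contain the scalars, have
point stabilisers of odd order and contain no translation.
-/
import Cfsg.Agent.S0731
import Cfsg.Agent.Inv.BaerSuzuki

set_option autoImplicit false
open Cfsg Subgroup MulAction

namespace CL.L2C

/-- The hypotheses of the affine lemma. -/
structure Aff (Γ : Type*) [Group Γ] (F : Type*) [Field F] [MulAction Γ F] : Prop where
  two : (2 : F) = 0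
  four : 4 ≤ Nat.card F
  faith : ∀ γ : Γ, (∀ x : F, γ • x = x) → γ = 1
  aff : ∀ (γ : Γ) (x y : F), γ • (x + y) = γ • x + γ • y + γ • (0 : F)
  scal : ∀ μ : F, μ ≠ 0 → ∃ γ : Γ, ∀ x : F, γ • x = μ * x
  mov : ∃ γ : Γ, γ • (0 : F) ≠ 0
  odd : ∀ γ : Γ, γ • (0 : F) = 0 → γ * γ = 1 → γ = 1
  semi : ∀ γ : Γ, γ • (0 : F) = 0 → ∀ μ : F, ∃ ν : F, ∀ x : F, γ • (μ * x) = ν * γ • x
  tr : ∀ γ : Γ, (∀ x : F, γ • x = x + γ • (0 : F)) → γ = 1

namespace Aff

variable {Γ : Type*} [Group Γ] [Finite Γ] {F : Type*} [Field F] [Finite F] [MulAction Γ F] (h : Aff Γ F)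
include h

omit [Finite Γ] [Finite F] in
theorem ext {γ δ : Γ} (e : ∀ x : F, γ • x = δ • x) : γ = δ :=
  (inv_mul_eq_one.1 (h.faith _ fun x => by rw [mul_smul, ← e, inv_smul_smul])).symm.symm

omit [Finite Γ] [Finite F] in
theorem trans (x : F) : ∃ γ : Γ, γ • (0 : F) = x := by
  by_cases hx : x = 0
  · exact ⟨1, by rw [one_smul, hx]⟩
  obtain ⟨γ, hγ⟩ := h.mov
  obtain ⟨δ, hδ⟩ := h.scal _ (div_ne_zero hx hγ)
  exact ⟨δ * γ, by rw [mul_smul, hδ, div_mul_cancel₀ _ hγ]⟩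

omit [Finite Γ] [Finite F] in
theorem trans2 {x y : F} (hxy : x ≠ y) : ∃ γ : Γ, γ • (0 : F) = x ∧ γ • (1 : F) = y := by
  obtain ⟨γ, rfl⟩ := h.trans x
  obtain ⟨δ, hδ⟩ := h.scal (γ⁻¹ • y) fun e => hxy (by rw [← e, smul_inv_smul])
  exact ⟨γ * δ, by rw [mul_smul, hδ, mul_zero], by rw [mul_smul, hδ, mul_one, smul_inv_smul]⟩

omit [Finite Γ] [Finite F] in
theorem eq_one_of_fix {γ : Γ} {x : F} (e : γ • x = x) (h2 : γ * γ = 1) : γ = 1 := by
  obtain ⟨δ, rfl⟩ := h.trans x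
  have := h.odd (δ⁻¹ * γ * δ) (by rw [mul_smul, mul_smul, e, inv_smul_smul]) (by
    calc _ = δ⁻¹ * (γ * γ) * δ := by group
      _ = 1 := by rw [h2]; group)
  calc γ = δ * (δ⁻¹ * γ * δ) * δ⁻¹ := by group
    _ = 1 := by rw [this]; group

omit [Finite F] in
theorem odd_of_fix {γ : Γ} {x : F} (e : γ • x = x) : Odd (orderOf γ) := by
  by_contra hn
  obtain ⟨k, hk⟩ := Nat.not_odd_iff_even.1 hn
  have h1 := h.eq_one_of_fix (γ := γ ^ k) (x := x) (pow_mem (show γ ∈ stabilizer Γ x from e) k)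
    (by rw [← pow_add, ← hk, pow_orderOf_eq_one])
  have h2 := orderOf_pos γ
  have h3 := Nat.le_of_dvd (by omega) (orderOf_dvd_of_pow_eq_one h1)
  omega

omit [Finite Γ] in
theorem card_pow : ∃ n, Nat.card F = 2 ^ n := by
  have : CharP F 2 := CharTwo.of_one_ne_zero_of_two_eq_zero one_ne_zero h.two
  have := Fintype.ofFinite F
  obtain ⟨n, -, hn⟩ := FiniteField.card F 2
  exact ⟨n, by rw [Nat.card_eq_fintype_card, hn]⟩

omit [Finite Γ] in
/-- there is no nontrivial normal 2-subgroup -/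
theorem eq_bot {N : Subgroup Γ} (hn : N.Normal) (hN : IsPGroup 2 N) : N = ⊥ := by
  have a2 : ∀ x : F, x + x = 0 := fun x => by linear_combination x * h.two
  let act : MulAction N F :=
    { smul := fun γ x => (γ : Γ) • x + (γ : Γ) • (0 : F)
      one_smul := fun x => by
        change ((1 : N) : Γ) • x + ((1 : N) : Γ) • (0 : F) = x
        simp
      mul_smul := fun γ δ x => by
        change ((γ * δ : N) : Γ) • x + ((γ * δ : N) : Γ) • (0 : F) =
          (γ : Γ) • ((δ : Γ) • x + (δ : Γ) • (0 : F)) + (γ : Γ) • (0 : F)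
        rw [h.aff, add_assoc _ _ ((γ : Γ) • (0 : F)), a2, add_zero, coe_mul, mul_smul, mul_smul] }
  obtain ⟨n, hc⟩ := h.card_pow
  have h4 := h.four
  have hd : 2 ∣ Nat.card F := by
    rw [hc] at h4 ⊢
    exact dvd_pow_self 2 (by rintro rfl; omega)
  obtain ⟨v, hv, h0⟩ := @IsPGroup.exists_fixed_point_of_prime_dvd_card_of_fixed_point 2 N _ hN _ F act _ hd 0
    fun γ => a2 _
  refine eq_bot_iff.2 fun γ hγ => h.tr γ fun x => ?_
  by_cases hx : x = 0
  · rw [hx, zero_add]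
  obtain ⟨σ, hσ⟩ := h.scal _ (div_ne_zero hx h0.symm)
  have h1 : (σ⁻¹ * γ * σ⁻¹⁻¹) • v + (σ⁻¹ * γ * σ⁻¹⁻¹) • (0 : F) = v := hv ⟨_, hn.conj_mem _ hγ σ⁻¹⟩
  have h2 : ∀ y : F, σ • (σ⁻¹ * γ * σ⁻¹⁻¹) • y = γ • (x / v * y) := fun y => by
    rw [inv_inv, mul_smul, mul_smul, smul_inv_smul, hσ]
  have h3 := congrArg (σ • ·) h1
  rw [hσ, mul_add, ← hσ, ← hσ, h2, h2, hσ, mul_zero, div_mul_cancel₀ _ h0.symm] at h3
  linear_combination h3 - a2 (γ • (0 : F))

omit [Finite F] in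
theorem exists_swap {C : Subgroup Γ} {g : Γ} (hg : g ∈ C) (h0 : g • (0 : F) = 1) (h1 : g • (1 : F) = 0) :
    ∃ s ∈ C, s * s = 1 ∧ s • (0 : F) = 1 ∧ s • (1 : F) = 0 := by
  have h2 : g * g ∈ stabilizer Γ (0 : F) := by rw [mem_stabilizer_iff, mul_smul, h0, h1]
  obtain ⟨j, hj⟩ := h.odd_of_fix h2
  have h3 : g ^ (2 * j + 1) * g ^ (2 * j + 1) = 1 := by
    rw [← (Commute.refl g).mul_pow, ← hj, pow_orderOf_eq_one]
  have h4 : g ^ (2 * j + 1) • (0 : F) = 1 := by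
    rw [pow_succ', pow_mul, sq, mul_smul, show (g * g) ^ j • (0 : F) = 0 from pow_mem h2 j, h0]
  exact ⟨_, pow_mem hg _, h3, h4, by rw [← h4, ← mul_smul, h3, one_smul]⟩

omit [Finite Γ] [Finite F] in
theorem e_mul {γ : Γ} (h0 : γ • (0 : F) = 0) (h1 : γ • (1 : F) = 1) (x y : F) : γ • (x * y) = γ • x * γ • y := by
  obtain ⟨ν, hν⟩ := h.semi γ h0 x
  have := hν 1
  rw [mul_one, h1, mul_one] at this
  rw [hν, this]

omit [Finite Γ] in
/-- the two point stabiliser is a group of field automorphisms -/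
theorem gal {ρ σ : Γ} (r0 : ρ • (0 : F) = 0) (r1 : ρ • (1 : F) = 1) (s0 : σ • (0 : F) = 0) (s1 : σ • (1 : F) = 1) :
    ρ * σ = σ * ρ ∧ ((∀ x : F, ρ • x = x → x = 0 ∨ x = 1) → σ ∈ zpowers ρ) := by
  have : CharP F 2 := CharTwo.of_one_ne_zero_of_two_eq_zero one_ne_zero h.two
  let _ := ZMod.algebra F 2
  let E : Subgroup Γ := stabilizer Γ (0 : F) ⊓ stabilizer Γ (1 : F)
  let f : E → Gal(F/ZMod 2) := fun γ => AlgEquiv.ofRingEquiv
    (f := { MulAction.toPerm (γ : Γ) with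
      map_mul' := fun x y => h.e_mul γ.2.1 γ.2.2 x y
      map_add' := fun x y => (h.aff γ x y).trans (by rw [show (γ : Γ) • (0 : F) = 0 from γ.2.1, add_zero]; rfl) })
    fun x => by
      rcases (by decide +revert : x = 0 ∨ x = 1) with rfl | rfl
      · rw [map_zero, map_zero]
      · rw [map_one, map_one]
  have f1 : ∀ (γ : E) (x : F), f γ x = (γ : Γ) • x := fun _ _ => rfl
  let φ : E →* Gal(F/ZMod 2) := MonoidHom.mk' f fun a b => AlgEquiv.ext fun x => by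
    rw [AlgEquiv.mul_apply, f1, f1, f1, coe_mul, mul_smul]
  have inj : Function.Injective φ := fun a b e => Subtype.ext (h.ext fun x => by
    rw [← f1, ← f1]; exact congrArg (fun g : Gal(F/ZMod 2) => g x) e)
  let r : E := ⟨ρ, r0, r1⟩
  let s : E := ⟨σ, s0, s1⟩
  constructor
  · have : r * s = s * r := inj (by
      rw [map_mul, map_mul]
      let _ := IsCyclic.commGroup (α := Gal(F/ZMod 2))
      exact mul_comm _ _)
    exact congrArg Subtype.val this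
  · intro hf
    have h1 : φ s ∈ zpowers (φ r) := by
      rw [← IntermediateField.fixingSubgroup_fixedField (zpowers (φ r)), IntermediateField.mem_fixingSubgroup_iff]
      intro x hx
      rcases hf x ((IntermediateField.mem_fixedField_iff _ _).1 hx _ (mem_zpowers _)) with rfl | rfl
      · exact map_zero _
      · exact map_one _
    obtain ⟨k, hk⟩ := mem_zpowers_iff.1 h1
    rw [← map_zpow] at hk
    exact mem_zpowers_iff.2 ⟨k, congrArg Subtype.val (inj hk)⟩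

/-- an element fixing `0` and `1` which is inverted by an involution interchanging them has no other fixed point -/
theorem fix_of_inv {s σ : Γ} (ss : s * s = 1) (s0 : s • (0 : F) = 1) (s1 : s • (1 : F) = 0) (r0 : σ • (0 : F) = 0)
    (r1 : σ • (1 : F) = 1) (hn : σ ≠ 1) (hi : s * σ * s⁻¹ = σ⁻¹) (μ : F) (hμ : σ • μ = μ) : μ = 0 ∨ μ = 1 := by
  by_contra hc
  obtain ⟨m0, m1⟩ := not_or.1 hc
  have si : s⁻¹ = s := inv_eq_of_mul_eq_one_right ss
  have sx : ∀ x : F, s • s • x = x := fun x => by rw [← mul_smul, ss, one_smul]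
  have c1 : ∀ ν : F, ν ≠ 0 → σ • ν = ν → ∃ m ∈ centralizer {σ}, ∀ x : F, m • x = ν * x := fun ν h0 hν => by
    obtain ⟨m, hm⟩ := h.scal ν h0
    exact ⟨m, mem_centralizer_singleton_iff.2 (h.ext fun x => by
      rw [mul_smul, mul_smul, hm, hm, h.e_mul r0 r1, hν]), hm⟩
  have c2 : ∀ m ∈ centralizer {σ}, s * m * s ∈ centralizer {σ} := fun m hm => mem_centralizer_singleton_iff.2 (by
    have e : Commute m σ := mem_centralizer_singleton_iff.1 hm
    have e1 : σ = s * σ⁻¹ * s := by rw [← hi, si, ← mul_assoc, ← mul_assoc, ss, one_mul, mul_assoc, ss, mul_one]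
    calc s * m * s * σ = s * (m * (s * σ * s⁻¹)) * s := by group
      _ = s * σ⁻¹ * (s * s) * m * s := by rw [hi, e.inv_right.eq, ss]; group
      _ = _ := by nth_rw 2 [e1]; group)
  have c3 : ∀ ν : F, ν ≠ 1 → σ • ν = ν → ∃ m ∈ centralizer {σ}, m • (1 : F) = 1 ∧ m • (0 : F) = ν := fun ν h1 hν => by
    obtain ⟨m, hm, e⟩ := c1 (s • ν) (fun e => h1 (by rw [← sx ν, e, s0])) (by
      have : σ⁻¹ • s • ν = s • ν := by rw [← hi, mul_smul, mul_smul, inv_smul_smul, hν]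
      rw [← this, smul_inv_smul, this])
    exact ⟨_, c2 m hm, by rw [mul_smul, mul_smul, s1, e, mul_zero, s0], by rw [mul_smul, mul_smul, s0, e, mul_one, sx]⟩
  have hi' : σ • μ⁻¹ = μ⁻¹ := by
    have := h.e_mul r0 r1 μ μ⁻¹
    rw [mul_inv_cancel₀ m0, r1, hμ] at this
    exact (eq_inv_of_mul_eq_one_right this.symm)
  obtain ⟨n1, a1, a2, a3⟩ := c3 μ m1 hμ
  obtain ⟨n2, b1, b2, b3⟩ := c3 μ⁻¹ (fun e => m1 (inv_eq_one.1 e)) hi'
  obtain ⟨m, d1, d2⟩ := c1 μ⁻¹ (inv_ne_zero m0) hi'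
  obtain ⟨s', e1, e2, e3, e4⟩ := h.exists_swap (mul_mem (mul_mem (inv_mem b1) d1) a1)
    (by rw [mul_smul, mul_smul, a3, d2, inv_mul_cancel₀ m0, inv_smul_eq_iff, b2])
    (by rw [mul_smul, mul_smul, a2, d2, mul_one, inv_smul_eq_iff, b3])
  have e5 := (h.gal (ρ := s * s') (by rw [mul_smul, e3, s1]) (by rw [mul_smul, e4, s0]) r0 r1).1
  have e6 : s' * σ = σ * s' := mem_centralizer_singleton_iff.1 e1
  rw [mul_assoc, e6, ← mul_assoc, ← mul_assoc, mul_left_inj] at e5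
  rw [e5, mul_inv_cancel_right] at hi
  exact hn (h.eq_one_of_fix r0 (mul_eq_one_iff_eq_inv.2 hi))

theorem exists_inv : ∃ s ρ : Γ, s * s = 1 ∧ s • (0 : F) = 1 ∧ s • (1 : F) = 0 ∧ ρ • (0 : F) = 0 ∧ ρ • (1 : F) = 1 ∧
    ρ ≠ 1 ∧ s * ρ * s⁻¹ = ρ⁻¹ := by
  obtain ⟨g, g0, g1⟩ := h.trans2 (one_ne_zero (α := F))
  obtain ⟨s, -, ss, s0, s1⟩ := h.exists_swap (mem_top g) g0 g1
  have sn : s ≠ 1 := fun e => by rw [e, one_smul] at s0; exact zero_ne_one s0
  obtain ⟨k, k1, k2, k3, -⟩ := CL.Inv.invol_inverts_odd_of_not_mem ss fun hp =>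
    sn (mem_bot.1 (h.eq_bot normalClosure_normal hp ▸ subset_normalClosure (Set.mem_singleton s)))
  obtain ⟨p, hp, hd⟩ := Nat.exists_prime_and_dvd (n := orderOf k) (by rwa [ne_eq, orderOf_eq_one_iff])
  have := Fact.mk hp
  have ho := orderOf_pow_orderOf_div (orderOf_pos k).ne' hd
  set r := k ^ (orderOf k / p) with hr
  have hP : IsPGroup p (zpowers r) := IsPGroup.of_card (n := 1) (by rw [Nat.card_zpowers, ho, pow_one])
  obtain ⟨n, hc⟩ := h.card_pow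
  obtain ⟨x, hx⟩ := hP.nonempty_fixed_point_of_prime_not_dvd_card F fun e => by
    rw [hc] at e
    have e1 := (Nat.prime_dvd_prime_iff_eq hp Nat.prime_two).1 (hp.dvd_of_dvd_pow e)
    exact (Nat.not_even_iff_odd.2 k2) (even_iff_two_dvd.2 (e1 ▸ hd))
  have x1 : r • x = x := hx ⟨r, mem_zpowers r⟩
  have ri : s * r * s⁻¹ = r⁻¹ := by rw [hr, ← conj_pow, k3, inv_pow]
  have x2 : r • s • x = s • x := by
    have : r⁻¹ • s • x = s • x := by rw [← ri, mul_smul, mul_smul, inv_smul_smul, x1]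
    rw [← this, smul_inv_smul, this]
  obtain ⟨γ, c0, c1⟩ := h.trans2 (x := x) (y := s • x) fun e => sn (h.eq_one_of_fix e.symm ss)
  refine ⟨γ⁻¹ * s * γ, γ⁻¹ * r * γ, ?_, ?_, ?_, ?_, ?_, fun e => ?_, ?_⟩
  · calc _ = γ⁻¹ * (s * s) * γ := by group
      _ = 1 := by rw [ss]; group
  · rw [mul_smul, mul_smul, c0, ← c1, inv_smul_smul]
  · rw [mul_smul, mul_smul, c1, ← mul_smul s s, ss, one_smul, ← c0, inv_smul_smul]
  · rw [mul_smul, mul_smul, c0, x1, ← c0, inv_smul_smul]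
  · rw [mul_smul, mul_smul, c1, x2, ← c1, inv_smul_smul]
  · have : r = 1 := by
      calc r = γ * (γ⁻¹ * r * γ) * γ⁻¹ := by group
        _ = 1 := by rw [e]; group
    rw [this, orderOf_one] at ho
    exact hp.one_lt.ne ho
  · calc _ = γ⁻¹ * (s * r * s⁻¹) * γ := by group
      _ = _ := by rw [ri]; group

theorem zass : IsZassenhausGroup Γ F := by
  obtain ⟨s, ρ, ss, s0, s1, r0, r1, rn, ri⟩ := h.exists_inv
  refine ⟨⟨fun e => h.ext e⟩, is_two_pretransitive_iff.2 fun {a b c d} hab hcd => ?_, fun g a b c hab hbc hac ga gb gc => ?_,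
    ⟨ρ, rn, 0, 1, zero_ne_one, r0, r1⟩, fun N hN ht => ?_⟩
  · obtain ⟨γ, a1, a2⟩ := h.trans2 hab
    obtain ⟨δ, b1, b2⟩ := h.trans2 hcd
    exact ⟨δ * γ⁻¹, by rw [mul_smul, ← a1, inv_smul_smul, b1], by rw [mul_smul, ← a2, inv_smul_smul, b2]⟩
  · obtain ⟨γ, rfl, rfl⟩ := h.trans2 hab
    have fx : ∀ x : F, g • γ • x = γ • x → (γ⁻¹ * g * γ) • x = x := fun x e => by
      rw [mul_smul, mul_smul, e, inv_smul_smul]
    by_contra hn
    obtain ⟨k, hk⟩ := mem_zpowers_iff.1 ((h.gal r0 r1 (fx 0 ga) (fx 1 gb)).2 (h.fix_of_inv ss s0 s1 r0 r1 rn ri))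
    rcases h.fix_of_inv ss s0 s1 (fx 0 ga) (fx 1 gb) (fun e => hn (by
      calc g = γ * (γ⁻¹ * g * γ) * γ⁻¹ := by group
        _ = 1 := by rw [e]; group)) (by rw [← hk, ← conj_zpow, ri, inv_zpow]) (γ⁻¹ • c)
        (fx _ (by rw [smul_inv_smul, gc])) with e | e
    · exact hac (by rw [← e, smul_inv_smul])
    · exact hbc (by rw [← e, smul_inv_smul])
  · by_contra hc
    push Not at hc
    obtain ⟨n, hn⟩ := h.card_pow
    have h1 := index_stabilizer_of_transitive N (0 : F)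
    rw [hc, index_bot, hn] at h1
    have h2 := h.eq_bot hN (IsPGroup.of_card h1)
    obtain ⟨g, hg⟩ := ht.exists_smul_eq (0 : F) 1
    have h3 : g = 1 := Subtype.ext (mem_bot.1 (h2 ▸ g.2))
    rw [h3, one_smul] at hg
    exact zero_ne_one hg

/-- The affine lemma. -/
theorem psl : ∃ (K : Type) (_ : Field K) (_ : Fintype K), ringChar K ≠ 2 ∧
    Nonempty (Γ ≃* Matrix.ProjectiveSpecialLinearGroup (Fin 2) K) := by
  have ne : ∀ {γ : Γ} {μ : F}, (∀ x : F, γ • x = μ * x) → μ ≠ 0 := fun {γ μ} e h0 =>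
    zero_ne_one (smul_left_cancel γ (by rw [e, e, h0, zero_mul, zero_mul]) : (0 : F) = 1)
  let M : Subgroup Γ :=
    { carrier := {γ | ∃ μ : F, ∀ x : F, γ • x = μ * x}
      mul_mem' := by
        rintro a b ⟨μ, ha⟩ ⟨ν, hb⟩
        exact ⟨μ * ν, fun x => by rw [mul_smul, hb, ha, mul_assoc]⟩
      one_mem' := ⟨1, fun x => by rw [one_smul, one_mul]⟩
      inv_mem' := by
        rintro a ⟨μ, ha⟩
        exact ⟨μ⁻¹, fun x => by rw [inv_smul_eq_iff, ha, mul_inv_cancel_left₀ (ne ha)]⟩ }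
  refine (Cfsg.Agent.S0731.result h.zass (0 : F) M ?_ ⟨?_⟩ ⟨⟨?_⟩⟩ ?_).resolve_left ?_
  · rintro γ ⟨μ, e⟩
    rw [mem_stabilizer_iff, e, mul_zero]
  · rintro a ⟨μ, ha⟩ g
    obtain ⟨ν, hν⟩ := h.semi g g.2 μ
    exact ⟨ν, fun x => by
      change ((g : Γ) * a * (g : Γ)⁻¹) • x = _
      rw [mul_smul, mul_smul]
      exact (congrArg ((g : Γ) • ·) (ha _)).trans (by rw [hν, smul_inv_smul])⟩
  · rintro ⟨a, μ, ha⟩ ⟨b, ν, hb⟩
    exact Subtype.ext (h.ext fun x => by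
      change (a * b) • x = (b * a) • x
      rw [mul_smul, mul_smul, ha, hb, ha, hb, mul_left_comm])
  · intro y z hy hz
    obtain ⟨γ, hγ⟩ := h.scal _ (div_ne_zero hz hy)
    refine ⟨⟨γ, _, hγ⟩, by simp only [hγ, div_mul_cancel₀ _ hy], ?_⟩
    rintro ⟨a, μ, ha⟩ e
    exact Subtype.ext (h.ext fun x => by
      change a • x = γ • x
      rw [hγ, ha, ← e, ha, mul_div_cancel_right₀ _ hy])
  · rintro ⟨h3, -⟩
    obtain ⟨μ, m0, m1⟩ : ∃ μ : F, μ ≠ 0 ∧ μ ≠ 1 := by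
      by_contra! hc
      have h1 : (Set.univ : Set F) ⊆ {0, 1} := fun x _ => or_iff_not_imp_left.2 (hc x)
      have h2 := Set.ncard_le_ncard h1
      have h3 := Set.ncard_pair (zero_ne_one (α := F))
      have h4 := h.four
      rw [Set.ncard_univ] at h2
      omega
    have inj : ∀ {a b : F}, a ≠ 0 → b ≠ 0 → a ≠ b → Function.Injective ![0, a, b] := fun {a b} ha hb hab i j e => by
      fin_cases i <;> fin_cases j <;> simp_all [eq_comm]
    obtain ⟨γ, hγ⟩ := h3.exists_smul_eq ⟨_, inj one_ne_zero m0 m1.symm⟩ ⟨_, inj m0 one_ne_zero m1⟩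
    have e0 : γ • (0 : F) = 0 := congrArg (fun f : Fin 3 ↪ F => f 0) hγ
    have e1 : γ • (1 : F) = μ := congrArg (fun f : Fin 3 ↪ F => f 1) hγ
    have e2 : γ • μ = 1 := congrArg (fun f : Fin 3 ↪ F => f 2) hγ
    obtain ⟨j, hj⟩ := h.odd_of_fix e0
    have e3 : γ * γ ∈ stabilizer Γ (1 : F) := by rw [mem_stabilizer_iff, mul_smul, e1, e2]
    have e4 := pow_orderOf_eq_one γ
    rw [hj, pow_succ', pow_mul, sq] at e4
    rw [← show (γ * γ) ^ j • (1 : F) = 1 from pow_mem e3 j, ← mul_smul, e4, one_smul] at e1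
    exact m1 e1.symm

end Aff

end CL.L2C
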